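import Cfsg.Agent.Lib.MaxCl.SU3.Gen

/-!
# An irreducible unitary group in dimension three with one full root group has all root groups
-/

set_option autoImplicit false

namespace Cfsg.Agent.MaxCl.SU3

open Cfsg.Agent.MaxCl Cfsg.Agent.MaxCl.Unit
open scoped MatrixGroups

variable {ι : Type} [Fintype ι] [DecidableEq ι] {F : Type*} [Field F] [Fintype F] {σ : F ≃+* F}
  {f : (ι → F) → (ι → F) → F} (hU : Cfsg.Geo.IsUnitaryForm σ f) {M : Subgroup (GL ι F)}
include hU

/-- Two full root groups on a secant give all root groups at the isotropic points of the secant. -/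
theorem rootIn_secant {l l' : ι → F} (h1 : RootIn hU M l) (h2 : RootIn hU M l') (hll : f l l' = 1) (a b : F)
    (hab : a * σ b + b * σ a = 0) : RootIn hU M (a • l + b • l') := by
  rcases eq_or_ne b 0 with rfl | hb
  · rw [zero_smul, add_zero]; exact rootIn_smul hU h1 a
  rcases eq_or_ne a 0 with rfl | ha
  · rw [zero_smul, zero_add]; exact rootIn_smul hU h2 b
  refine rootIn_step hU (v := a • l) ?_ (rootIn_smul hU h1 a) ?_ ?_
  · rw [add_sub_cancel_left]; exact rootIn_smul hU h2 b
  · rw [add_sub_cancel_left, smul_left hU, smul_right hU, hll, mul_one]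
    exact mul_ne_zero ha ((map_ne_zero σ).2 hb)
  · have hl'l : f l' l = 1 := by rw [← herm' hU l l', hll, map_one]
    simp only [add_left hU, add_right hU, smul_left hU, smul_right hU, h1.1, h2.1, hll, hl'l]
    linear_combination hab

/-- A point off a secant with a full root group gives every point off the secant with non-zero coordinates. -/
theorem rootIn_off {l l' m : ι → F} (h1 : RootIn hU M l) (h2 : RootIn hU M l') (hll : f l l' = 1)
    (hml : f m l = 0) (hml' : f m l' = 0) (hm : f m m ≠ 0) {a b a' b' : F}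
    (ha : RootIn hU M (a • l + b • l' + m)) (h' : f (a' • l + b' • l' + m) (a' • l + b' • l' + m) = 0) :
    RootIn hU M (a' • l + b' • l' + m) := by
  have hl'l : f l' l = 1 := by rw [← herm' hU l l', hll, map_one]
  have hlm := eq_zero_symm hU hml
  have hl'm := eq_zero_symm hU hml'
  have hN : ∀ a b : F, f (a • l + b • l' + m) (a • l + b • l' + m) = a * σ b + b * σ a + f m m := by
    intro a b
    simp only [add_left hU, add_right hU, smul_left hU, smul_right hU, h1.1, h2.1, hll, hl'l, hml, hml', hlm,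
      hl'm]
    ring
  have e0 : a * σ b + b * σ a + f m m = 0 := (hN a b).symm.trans ha.1
  have e' : a' * σ b' + b' * σ a' + f m m = 0 := (hN a' b').symm.trans h'
  have nz : ∀ a b : F, a * σ b + b * σ a + f m m = 0 → a ≠ 0 ∧ b ≠ 0 := fun a b h => by
    constructor <;> rintro rfl <;> simp at h <;> exact hm h
  -- vary the first coordinate
  have moveA : ∀ a b a' : F, a * σ b + b * σ a + f m m = 0 → a' * σ b + b * σ a' + f m m = 0 →
      RootIn hU M (a • l + b • l' + m) → RootIn hU M (a' • l + b • l' + m) := by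
    intro a b a' e e1 h
    by_cases haa : a' = a
    · rwa [haa]
    have hd : a' • l + b • l' + m - (a • l + b • l' + m) = (a' - a) • l := by rw [sub_smul]; abel
    refine rootIn_step hU ?_ h ?_ ?_
    · rw [hd]; exact rootIn_smul hU h1 _
    · rw [hd, smul_right hU, add_left hU, add_left hU, smul_left hU, smul_left hU, h1.1, hl'l, hml, mul_zero,
        zero_add, add_zero, mul_one]
      exact mul_ne_zero ((map_ne_zero σ).2 (sub_ne_zero.2 haa)) (nz _ _ e).2
    · rw [hN, hN, e, e1]
  have moveB : ∀ a b b' : F, a * σ b + b * σ a + f m m = 0 → a * σ b' + b' * σ a + f m m = 0 →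
      RootIn hU M (a • l + b • l' + m) → RootIn hU M (a • l + b' • l' + m) := by
    intro a b b' e e1 h
    by_cases hbb : b' = b
    · rwa [hbb]
    have hd : a • l + b' • l' + m - (a • l + b • l' + m) = (b' - b) • l' := by rw [sub_smul]; abel
    refine rootIn_step hU ?_ h ?_ ?_
    · rw [hd]; exact rootIn_smul hU h2 _
    · rw [hd, smul_right hU, add_left hU, add_left hU, smul_left hU, smul_left hU, h2.1, hll, hml', mul_zero,
        mul_one, add_zero, add_zero]
      exact mul_ne_zero ((map_ne_zero σ).2 (sub_ne_zero.2 hbb)) (nz _ _ e).1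
    · rw [hN, hN, e, e1]
  -- second coordinates independent over the fixed field
  have two : ∀ a b a' b' : F, a * σ b + b * σ a + f m m = 0 → a' * σ b' + b' * σ a' + f m m = 0 →
      σ b * b' - σ b' * b ≠ 0 → RootIn hU M (a • l + b • l' + m) → RootIn hU M (a' • l + b' • l' + m) := by
    intro a b a' b' e e1 hD h
    obtain ⟨c, hc⟩ : ∃ c, c = -f m m * (b' - b) / (σ b * b' - σ b' * b) := ⟨_, rfl⟩
    have hD' : b * σ b' - b' * σ b ≠ 0 := fun h0 => hD (by linear_combination -h0)
    have hσ : σ c = -f m m * (σ b' - σ b) / (b * σ b' - b' * σ b) := by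
      rw [hc]
      simp only [map_div₀, map_mul, map_neg, map_sub, hU.involutive, herm' hU]
    rw [show b * σ b' - b' * σ b = -(σ b * b' - σ b' * b) by ring, div_neg, ← neg_div] at hσ
    have c1 : c * σ b + b * σ c + f m m = 0 := by
      rw [hσ, hc, div_mul_eq_mul_div, mul_div_assoc', ← add_div, div_add' _ _ _ hD, div_eq_zero_iff]
      left; ring
    have c2 : c * σ b' + b' * σ c + f m m = 0 := by
      rw [hσ, hc, div_mul_eq_mul_div, mul_div_assoc', ← add_div, div_add' _ _ _ hD, div_eq_zero_iff]
      left; ring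
    exact moveA c b' a' c2 e1 (moveB c b b' c1 c2 (moveA a b c e c1 h))
  by_cases hD : σ b * b' - σ b' * b ≠ 0
  · exact two a b a' b' e0 e' hD ha
  obtain ⟨k, hk⟩ := exists_moved hU.ne_refl
  obtain ⟨a₁, b₁, e1, hD1, hD2⟩ : ∃ a₁ b₁ : F, a₁ * σ b₁ + b₁ * σ a₁ + f m m = 0 ∧
      σ b * b₁ - σ b₁ * b ≠ 0 ∧ σ b₁ * b' - σ b' * b₁ ≠ 0 := by
    have hb0 := (nz _ _ e0).2
    have hb'0 := (nz _ _ e').2
    obtain ⟨t, ht⟩ := exists_trace hU.involutive hU.ne_refl (-f m m) (by rw [map_neg, herm' hU])
    have hkb : k * b ≠ 0 := mul_ne_zero (fun h => hk (by rw [h, map_zero])) hb0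
    refine ⟨t / σ (k * b), k * b, ?_, ?_, ?_⟩
    · rw [map_div₀, hU.involutive, div_mul_cancel₀ _ ((map_ne_zero σ).2 hkb), mul_div_cancel₀ _ hkb, ht,
        neg_add_cancel]
    · intro h0
      rw [map_mul] at h0
      exact hk ((mul_left_injective₀ (mul_ne_zero ((map_ne_zero σ).2 hb0) hb0)) (by linear_combination -h0))
    · intro h0
      rw [map_mul] at h0
      push Not at hD
      refine hk ((mul_left_injective₀ (mul_ne_zero ((map_ne_zero σ).2 hb0) hb'0)) ?_)
      linear_combination h0 - k * hD
  exact two a₁ b₁ a' b' e1 e' hD2 (two a b a₁ b₁ e0 e1 hD1 ha)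

/-- An irreducible group in dimension three with a full root group has all root groups. -/
theorem rootIn_all_three (hn : Fintype.card ι = 3) (hM : M ≤ uiso f)
    (hirr : ∀ W : Submodule F (ι → F), (∀ g ∈ M, ∀ x ∈ W, act g x ∈ W) → W = ⊥ ∨ W = ⊤)
    {l : ι → F} (hl : l ≠ 0) (h : RootIn hU M l) : ∀ u, f u u = 0 → RootIn hU M u := by
  obtain ⟨S, hS⟩ : ∃ S : Submodule F (ι → F), S = Submodule.span F {u | u ≠ 0 ∧ RootIn hU M u} := ⟨_, rfl⟩
  have hStop : S = ⊤ := by
    refine (hirr S fun g hg x hx => ?_).resolve_left fun hb =>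
      hl ((Submodule.mem_bot F).1 (hb ▸ hS ▸ Submodule.subset_span ⟨hl, h⟩))
    rw [hS] at hx ⊢
    induction hx using Submodule.span_induction with
    | mem x hx =>
      exact Submodule.subset_span ⟨fun e => hx.1 (act_injective g (e.trans (map_zero _).symm)),
        rootIn_conj hU hg (hM hg) hx.2⟩
    | zero => simp
    | add _ _ _ _ a b => rw [map_add]; exact add_mem a b
    | smul c _ _ a => rw [map_smul]; exact Submodule.smul_mem _ _ a
  obtain ⟨w, hw, hlw⟩ : ∃ w, RootIn hU M w ∧ f w l ≠ 0 := by
    by_contra hno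
    push Not at hno
    obtain ⟨z, hz⟩ := (hU.nondegenerate l hl).1
    have hle : S ≤ LinearMap.ker (flinU hU l) := hS ▸ Submodule.span_le.2 fun u hu => hno u hu.2
    exact hz (hle (hStop ▸ Submodule.mem_top : z ∈ S))
  obtain ⟨l', hl'⟩ : ∃ l', l' = σ (f l w)⁻¹ • w := ⟨_, rfl⟩
  have h2 : RootIn hU M l' := hl' ▸ rootIn_smul hU hw _
  have hll : f l l' = 1 := by
    rw [hl', smul_right hU, hU.involutive, inv_mul_cancel₀ (ne_symm hU hlw)]
  have hl'l : f l' l = 1 := by rw [← herm' hU l l', hll, map_one]
  -- the pole of the secant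
  have hdec : ∀ u, ∃ r : ι → F, u = f u l' • l + f u l • l' + r ∧ f r l = 0 ∧ f r l' = 0 := by
    intro u
    refine ⟨u - f u l' • l - f u l • l', by abel, ?_, ?_⟩ <;>
      simp [sub_left hU, smul_left hU, h.1, h2.1, hll, hl'l]
  obtain ⟨w', hw', hw'off⟩ : ∃ w', RootIn hU M w' ∧ w' ≠ f w' l' • l + f w' l • l' := by
    by_contra hno
    push Not at hno
    have hle : S ≤ F ∙ l ⊔ F ∙ l' := hS ▸ Submodule.span_le.2 fun u hu => by
      rw [SetLike.mem_coe, hno u hu.2]
      exact add_mem (Submodule.mem_sup_left (Submodule.smul_mem _ _ (Submodule.mem_span_singleton_self l)))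
        (Submodule.mem_sup_right (Submodule.smul_mem _ _ (Submodule.mem_span_singleton_self l')))
    have h3 := Submodule.finrank_mono hle
    rw [hStop, finrank_top, Module.finrank_pi, hn] at h3
    have h4 := Submodule.finrank_add_le_finrank_add_finrank (F ∙ l) (F ∙ l')
    have h5 := finrank_span_le_card (R := F) ({l} : Set (ι → F))
    have h6 := finrank_span_le_card (R := F) ({l'} : Set (ι → F))
    simp only [Set.toFinset_singleton, Finset.card_singleton] at h5 h6
    omega
  obtain ⟨m, hm, hml, hml'⟩ := hdec w'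
  have hm0 : m ≠ 0 := fun e => hw'off (by rw [e, add_zero] at hm; exact hm)
  have hlm := eq_zero_symm hU hml
  have hmm : f m m ≠ 0 := by
    intro h0
    obtain ⟨c, hc⟩ := Submodule.mem_span_singleton.1 (dep_of_iso_orth_three hU hn.le hl h.1 h0 hlm)
    rw [← hc, smul_left hU, hll, mul_one] at hml'
    exact hm0 (by rw [← hc, hml', zero_smul])
  intro u hu
  obtain ⟨r, hr, hrl, hrl'⟩ := hdec u
  obtain ⟨c, hc⟩ : ∃ c : F, r = c • m := by
    refine ⟨f r m / f m m, sub_eq_zero.1 ?_⟩
    by_contra hne
    obtain ⟨d, hd, hd1, hd2, hdm⟩ : ∃ d, d ≠ 0 ∧ f d l = 0 ∧ f d l' = 0 ∧ f d m = 0 :=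
      ⟨_, hne, by simp [sub_left hU, smul_left hU, hrl, hml], by simp [sub_left hU, smul_left hU, hrl', hml'],
        by simp [sub_left hU, smul_left hU, div_mul_cancel₀ _ hmm]⟩
    obtain ⟨z, hz⟩ := (hU.nondegenerate d hd).1
    have hle : S ≤ LinearMap.ker (flinU hU d) := by
      rw [hS]
      refine Submodule.span_le.2 fun v hv => ?_
      show f v d = 0
      obtain ⟨s, hs, hsl, hsl'⟩ := hdec v
      by_cases hsd : f v d = 0
      · exact hsd
      exfalso
      have hind : LinearIndependent F ![l, l', m, d] := by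
        rw [Fintype.linearIndependent_iff]
        intro g hg
        simp [Fin.sum_univ_four] at hg
        have g1 := congrArg (f · l') hg
        have g2 := congrArg (f · l) hg
        simp [add_left hU, smul_left hU, zero_left hU, hll, hl'l, h.1, h2.1, hml, hml', hd1, hd2] at g1 g2
        rw [g1, g2, zero_smul, zero_smul, zero_add, zero_add] at hg
        have g3 := congrArg (f · m) hg
        simp [add_left hU, smul_left hU, zero_left hU, hdm, hmm] at g3
        rw [g3, zero_smul, zero_add] at hg
        have g4 := (smul_eq_zero.1 hg).resolve_right hd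
        intro i
        fin_cases i <;> assumption
      have := hind.fintype_card_le_finrank
      rw [Module.finrank_pi, hn, Fintype.card_fin] at this
      omega
    exact hz (hle (hStop ▸ Submodule.mem_top : z ∈ S))
  rw [hc] at hr
  rcases eq_or_ne c 0 with rfl | hc0
  · rw [zero_smul, add_zero] at hr
    rw [hr] at hu ⊢
    refine rootIn_secant hU h h2 hll _ _ ?_
    simp only [add_left hU, add_right hU, smul_left hU, smul_right hU, h.1, h2.1, hll, hl'l] at hu
    linear_combination hu
  have key : RootIn hU M ((f u l' / c) • l + (f u l / c) • l' + m) := by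
    refine rootIn_off hU h h2 hll hml hml' hmm (hm ▸ hw') ?_
    have e : (f u l' / c) • l + (f u l / c) • l' + m = c⁻¹ • u := by
      conv_rhs => rw [hr]
      rw [smul_add, smul_add, smul_smul, smul_smul, inv_smul_smul₀ hc0, div_eq_inv_mul, div_eq_inv_mul]
    rw [e, smul_left hU, smul_right hU, hu, mul_zero, mul_zero]
  have h7 := rootIn_smul hU key c
  rw [smul_add, smul_add, smul_smul, smul_smul, mul_div_cancel₀ _ hc0, mul_div_cancel₀ _ hc0, ← hr] at h7
  exact h7

end Cfsg.Agent.MaxCl.SU3
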