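/-
SU_3(q), q ≥ 3: generation by transvections and small facts.
-/
import Cfsg.Agent.Lib.MaxCl.UnitaryGen
import Cfsg.Agent.Lib.MaxCl.UnitarySmall
import Cfsg.Agent.Lib.ClassicalSimple.UnitaryMatrix

set_option autoImplicit false

namespace Cfsg.Agent.MaxCl.SU3

open Cfsg Cfsg.Agent.MaxCl Cfsg.Agent.MaxCl.Unit
open scoped MatrixGroups Matrix

variable {F : Type*} [Field F] [Fintype F]

theorem su_le_of_utv_three (q : ℕ) (hF : Fintype.card F = q ^ 2) (hq : 3 ≤ q) {τ : F ≃+* F}
    (hτ : ∀ x, τ x = x ^ q) (hf : Cfsg.Geo.IsUnitaryForm τ (Cfsg.hermForm 3 F q))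
    (M : Subgroup (GL (Fin 3) F))
    (hM : ∀ u c, Cfsg.hermForm 3 F q u u = 0 → c + τ c = 0 → utv hf u c ∈ M) :
    uiso (Cfsg.hermForm 3 F q) ⊓ Cfsg.Geo.specialLinear (Fin 3) F ≤ M := by
  rintro g ⟨hg, hdet⟩
  have hd : (g : Matrix (Fin 3) (Fin 3) F).det = 1 := congrArg Units.val (MonoidHom.mem_ker.1 hdet)
  have hA : (⟨_, hd⟩ : SL(3, F)) ∈ Cfsg.SU 3 F q := fun u v => by
    have h := mem_uiso.1 hg u v
    rwa [act_apply, act_apply] at h
  let ι : Cfsg.SU 3 F q →* GL (Fin 3) F := Matrix.SpecialLinearGroup.toGL.comp (Cfsg.SU 3 F q).subtype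
  have htop : (⊤ : Subgroup (Cfsg.SU 3 F q)) ≤ M.comap ι := by
    rw [← ClassicalSimple.closure_unitaryTransvectionSet hF le_rfl (by omega), Subgroup.closure_le]
    rintro A ⟨v, c, hv, hA'⟩
    have key : ∀ x, act (ι A) x = x + (c * Cfsg.hermForm 3 F q x v) • v := fun x => by
      rw [act_apply]
      show ((A : SL(3, F)) : Matrix (Fin 3) (Fin 3) F) *ᵥ x = _
      rw [hA', Cfsg.unitaryTransvection, Matrix.add_mulVec, Matrix.one_mulVec, Matrix.smul_mulVec,
        Matrix.vecMulVec_mulVec, op_smul_eq_smul, smul_smul]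
      congr 3
      simp only [Cfsg.hermForm, dotProduct]
      exact Finset.sum_congr rfl fun i _ => mul_comm _ _
    show ι A ∈ M
    rcases eq_or_ne v 0 with rfl | hv0
    · rw [show ι A = 1 from gl_ext fun x => by rw [key, smul_zero, add_zero, act_one]]
      exact M.one_mem
    have hc : c + τ c = 0 := by
      obtain ⟨y, hy⟩ := (hf.nondegenerate v hv0).1
      have hy' := ne_symm hf hy
      have hi : Cfsg.hermForm 3 F q (act (ι A) y) (act (ι A) y) = Cfsg.hermForm 3 F q y y := by
        rw [act_apply]; exact A.2 y y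
      simp only [key, add_left hf, add_right hf, smul_left hf, smul_right hf, hv, map_mul, herm' hf] at hi
      exact (mul_eq_zero.1 (show (c + τ c) * (Cfsg.hermForm 3 F q y v * Cfsg.hermForm 3 F q v y) = 0 by
        linear_combination hi)).resolve_right (mul_ne_zero hy hy')
    rw [show ι A = utv hf v c from gl_ext fun x => by rw [key, act_utv hf hv]]
    exact hM v c hv hc
  have := htop (Subgroup.mem_top ⟨_, hA⟩)
  have e : ι ⟨_, hA⟩ = g := Units.ext rfl
  rwa [Subgroup.mem_comap, e] at this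

variable {ι : Type} [Fintype ι] [DecidableEq ι] {σ : F ≃+* F} {f : (ι → F) → (ι → F) → F}
  (hU : Cfsg.Geo.IsUnitaryForm σ f)
include hU

/-- a non-zero non-degenerate subspace has an anisotropic vector -/
theorem exists_aniso {X : Submodule F (ι → F)} (hX : Cfsg.Geo.IsNondegenerateOn f X) (h0 : X ≠ ⊥) :
    ∃ b ∈ X, f b b ≠ 0 := by
  obtain ⟨v, hv, hv0⟩ := Submodule.exists_mem_ne_zero_of_ne_bot h0
  by_contra hno; push Not at hno
  obtain ⟨y, hy, hyv⟩ := (hX v hv hv0).1
  obtain ⟨e, he⟩ := exists_moved hU.ne_refl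
  have h1 := hno _ (add_mem (X.smul_mem e hy) hv)
  have h2 := hno _ (add_mem hy hv)
  simp only [add_left hU, add_right hU, smul_left hU, smul_right hU, hno y hy, hno v hv, mul_zero,
    add_zero, zero_add] at h1 h2
  exact hyv ((mul_eq_zero.1 (show (e - σ e) * f y v = 0 by linear_combination h1 - σ e * h2)).resolve_left
    (sub_ne_zero.2 (Ne.symm he)))

/-- the point orthogonal to two orthogonal anisotropic points in dimension three is anisotropic -/
theorem exists_aniso_perp_three (hn : Fintype.card ι = 3) {x y : ι → F} (hx : f x x ≠ 0) (hy : f y y ≠ 0)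
    (hxy : f x y = 0) : ∃ w, f w x = 0 ∧ f w y = 0 ∧ f w w ≠ 0 := by
  have hyx := eq_zero_symm hU hxy
  set S := F ∙ x ⊔ F ∙ y with hS
  have hSn : Cfsg.Geo.IsNondegenerateOn f S := by
    intro v hv hv0
    obtain ⟨_, h1, _, h2, rfl⟩ := Submodule.mem_sup.1 hv
    obtain ⟨s, rfl⟩ := Submodule.mem_span_singleton.1 h1
    obtain ⟨t, rfl⟩ := Submodule.mem_span_singleton.1 h2
    have hxS : x ∈ S := Submodule.mem_sup_left (Submodule.mem_span_singleton_self x)
    have hyS : y ∈ S := Submodule.mem_sup_right (Submodule.mem_span_singleton_self y)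
    have ex : f (s • x + t • y) x = s * f x x := by rw [add_left hU, smul_left hU, smul_left hU, hyx]; ring
    have ey : f (s • x + t • y) y = t * f y y := by rw [add_left hU, smul_left hU, smul_left hU, hxy]; ring
    by_cases hs : s = 0
    · have ht : t ≠ 0 := fun ht => hv0 (by rw [hs, ht]; simp)
      have hne : f (s • x + t • y) y ≠ 0 := by rw [ey]; exact mul_ne_zero ht hy
      exact ⟨⟨y, hyS, ne_symm hU hne⟩, ⟨y, hyS, hne⟩⟩
    · have hne : f (s • x + t • y) x ≠ 0 := by rw [ex]; exact mul_ne_zero hs hx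
      exact ⟨⟨x, hxS, ne_symm hU hne⟩, ⟨x, hxS, hne⟩⟩
  obtain ⟨w, hw, hww⟩ := exists_aniso hU (uperp_nondegenerate hU hSn) (fun h => by
    have h1 := finrank_uperp hU S
    have h2 : Module.finrank F S ≤ 2 := by
      refine (Submodule.finrank_add_le_finrank_add_finrank _ _).trans ?_
      have h3 := finrank_span_le_card (R := F) ({x} : Set (ι → F))
      have h4 := finrank_span_le_card (R := F) ({y} : Set (ι → F))
      simp only [Set.toFinset_singleton, Finset.card_singleton] at h3 h4
      omega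
    rw [h, finrank_bot] at h1
    omega)
  exact ⟨w, hw x (Submodule.mem_sup_left (Submodule.mem_span_singleton_self x)),
    hw y (Submodule.mem_sup_right (Submodule.mem_span_singleton_self y)), hww⟩

end Cfsg.Agent.MaxCl.SU3
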